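import Mathlib.RingTheory.DedekindDomain.Ideal.Lemmas
import Mathlib.RingTheory.Length
import Mathlib.RingTheory.Ideal.Quotient.Operations
import Mathlib.LinearAlgebra.Dimension.Finite
import Mathlib.LinearAlgebra.FiniteDimensional.Lemmas
import Mathlib.RingTheory.Noetherian.Basic

/-!
Lengths and dimensions of quotients of Dedekind domains by ideals.
-/

set_option autoImplicit false
set_option linter.unusedSectionVars false

universe u

open UniqueFactorizationMonoid

noncomputable section

namespace Groth.Agent.HurwitzAlg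

variable {B : Type u} [CommRing B] [IsDedekindDomain B]

/-- One step of the filtration of `B/IP`. -/
theorem exists_step {I P : Ideal B} (hI : I ≠ ⊥) [hP : P.IsMaximal] :
    ∃ (g : (B ⧸ P) →ₗ[B] B ⧸ (I * P)) (q : (B ⧸ (I * P)) →ₗ[B] B ⧸ I),
      Function.Injective g ∧ Function.Surjective q ∧ Function.Exact g q := by
  have hne : ¬ I ≤ I * P := fun hle => by
    have h1 : I * ⊤ = I * P := by rw [Ideal.mul_top]; exact le_antisymm hle Ideal.mul_le_left
    exact hP.ne_top (mul_left_cancel₀ (a := I) hI h1).symm
  obtain ⟨a, haI, ha⟩ := SetLike.not_le_iff_exists.1 hne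
  have hle : P ≤ LinearMap.ker ((Submodule.mkQ (I * P)).comp (LinearMap.toSpanSingleton B B a)) := fun b hb => by
    rw [LinearMap.mem_ker, LinearMap.comp_apply, Submodule.mkQ_apply, Submodule.Quotient.mk_eq_zero,
      LinearMap.toSpanSingleton_apply, smul_eq_mul]
    rw [mul_comm b a]
    exact Ideal.mul_mem_mul haI hb
  let g : (B ⧸ P) →ₗ[B] B ⧸ (I * P) := Submodule.liftQ P _ hle
  refine ⟨g, Submodule.factor Ideal.mul_le_left, ?_, Submodule.factor_surjective _, ?_⟩
  · rw [← LinearMap.ker_eq_bot]
    refine Submodule.ker_liftQ_eq_bot _ _ _ fun b hb => ?_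
    rw [LinearMap.mem_ker, LinearMap.comp_apply, Submodule.mkQ_apply, Submodule.Quotient.mk_eq_zero,
      LinearMap.toSpanSingleton_apply, smul_eq_mul] at hb
    by_contra hbP
    refine ha ?_
    obtain ⟨c, p, hp, hc⟩ := hP.exists_inv hbP
    have : a = c * (b * a) + p * a := by rw [← mul_assoc, ← add_mul, hc, one_mul]
    rw [this]
    exact add_mem (Ideal.mul_mem_left _ _ hb) (by rw [mul_comm p a]; exact Ideal.mul_mem_mul haI hp)
  · intro z
    obtain ⟨b, rfl⟩ := Submodule.Quotient.mk_surjective _ z
    constructor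
    · intro hz
      have hbI : b ∈ I := (Submodule.Quotient.mk_eq_zero I).1 hz
      -- `I = IP + (a)`
      have hsup : I * P ⊔ Ideal.span {a} = I := by
        obtain ⟨J, hJ⟩ := Ideal.dvd_iff_le.2 (sup_le Ideal.mul_le_left ((Ideal.span_singleton_le_iff_mem _).2 haI))
        have hPJ : P ≤ J := by
          rw [← Ideal.dvd_iff_le]
          have h1 : I * J ∣ I * P := Ideal.dvd_iff_le.2 (hJ ▸ le_sup_left)
          exact (mul_dvd_mul_iff_left hI).1 h1
        rcases eq_or_ne J ⊤ with hJt | hJt
        · rw [hJ, hJt, Ideal.mul_top]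
        · exfalso
          refine ha ?_
          rw [hP.eq_of_le hJt hPJ, ← hJ]
          exact Ideal.mem_sup_right (Ideal.mem_span_singleton_self a)
      rw [← hsup] at hbI
      obtain ⟨u, hu, v, hv, rfl⟩ := Submodule.mem_sup.1 hbI
      obtain ⟨c, rfl⟩ := Ideal.mem_span_singleton'.1 hv
      exact ⟨Submodule.Quotient.mk c, (Submodule.Quotient.eq _).2 (by
        show c • a - (u + c * a) ∈ I * P
        rw [smul_eq_mul, sub_add_cancel_right]
        exact neg_mem hu)⟩
    · rintro ⟨c, hc⟩
      obtain ⟨c, rfl⟩ := Submodule.Quotient.mk_surjective _ c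
      rw [← hc]
      exact (Submodule.Quotient.mk_eq_zero I).2 (Ideal.mul_mem_left _ c haI)

theorem prod_induction {C : Ideal B → Prop} (htop : C ⊤)
    (hmul : ∀ (I P : Ideal B), I ≠ ⊥ → P.IsMaximal → C I → C (I * P)) (I : Ideal B) (hI : I ≠ ⊥) : C I := by
  induction I using UniqueFactorizationMonoid.induction_on_prime with
  | h₁ => exact absurd Ideal.zero_eq_bot hI
  | h₂ J hJ => rwa [Ideal.isUnit_iff.1 hJ]
  | h₃ J P hJ hP ih =>
    haveI := Ideal.isPrime_of_prime hP
    rw [mul_comm]
    exact hmul J P (by simpa using hJ) (Ideal.IsPrime.isMaximal inferInstance (by simpa using hP.ne_zero)) (ih (by simpa using hJ))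

theorem normalizedFactors_mul_max {I P : Ideal B} (hI : I ≠ ⊥) [hP : P.IsMaximal] (hP0 : P ≠ ⊥) :
    normalizedFactors (I * P) = normalizedFactors I + {P} := by
  rw [normalizedFactors_mul hI hP0,
    normalizedFactors_irreducible ((Ideal.prime_iff_isPrime hP0).2 hP.isPrime).irreducible, normalize_eq]

/-- The length of a quotient by an ideal is the number of its prime factors. -/
theorem length_quot (hB : ¬ IsField B) (I : Ideal B) (hI : I ≠ ⊥) :
    Module.length B (B ⧸ I) = (normalizedFactors I).card := by
  refine prod_induction (C := fun I => Module.length B (B ⧸ I) = (normalizedFactors I).card) ?_ ?_ I hI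
  · haveI : Subsingleton (B ⧸ (⊤ : Ideal B)) := Ideal.Quotient.subsingleton_iff.2 rfl
    rw [Module.length_eq_zero, ← Ideal.one_eq_top, normalizedFactors_one]
    rfl
  · intro I P hI hP ih
    haveI := hP
    obtain ⟨g, q, hg, hq, hex⟩ := exists_step (I := I) (P := P) hI
    haveI : IsSimpleModule B (B ⧸ P) := isSimpleModule_iff_isCoatom.2 hP.out
    rw [Module.length_eq_add_of_exact g q hg hq hex, ih,
      normalizedFactors_mul_max hI (Ring.ne_bot_of_isMaximal_of_not_isField hP hB), Module.length_eq_one,
      Multiset.card_add, Multiset.card_singleton, Nat.cast_add, Nat.cast_one, add_comm]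

/-- The dimension of a quotient by an ideal. -/
theorem finrank_quot (k : Type u) [Field k] [Algebra k B] (hB : ¬ IsField B)
    (hfin : ∀ P : Ideal B, P.IsMaximal → Module.Finite k (B ⧸ P)) (I : Ideal B) (hI : I ≠ ⊥) :
    Module.Finite k (B ⧸ I) ∧
      Module.finrank k (B ⧸ I) = ((normalizedFactors I).map fun P => Module.finrank k (B ⧸ P)).sum := by
  refine prod_induction (C := fun I => Module.Finite k (B ⧸ I) ∧
    Module.finrank k (B ⧸ I) = ((normalizedFactors I).map fun P => Module.finrank k (B ⧸ P)).sum) ?_ ?_ I hI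
  · haveI : Subsingleton (B ⧸ (⊤ : Ideal B)) := Ideal.Quotient.subsingleton_iff.2 rfl
    refine ⟨inferInstance, ?_⟩
    rw [Module.finrank_zero_of_subsingleton, ← Ideal.one_eq_top, normalizedFactors_one]
    rfl
  · intro I P hI hP ih
    haveI := hP
    haveI := ih.1
    haveI := hfin P hP
    obtain ⟨g, q, hg, hq, hex⟩ := exists_step (I := I) (P := P) hI
    let g' := g.restrictScalars k
    let q' := q.restrictScalars k
    haveI : Module.Finite k (B ⧸ (I * P)) := Module.Finite.of_exact (f := g') (g := q') hex hq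
    refine ⟨inferInstance, ?_⟩
    have h1 := LinearMap.finrank_range_add_finrank_ker q'
    rw [LinearMap.range_eq_top.2 (show Function.Surjective q' from hq), finrank_top,
      LinearMap.exact_iff.1 (show Function.Exact g' q' from hex), LinearMap.finrank_range_of_inj (f := g') hg, ih.2] at h1
    rw [normalizedFactors_mul_max hI (Ring.ne_bot_of_isMaximal_of_not_isField hP hB), Multiset.map_add,
      Multiset.map_singleton, Multiset.sum_add, Multiset.sum_singleton]
    exact h1.symm

end Groth.Agent.HurwitzAlg
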