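import Groth.Agent.NormSect.Basic
import Groth.Agent.ZeroSch.Over
import Groth.Agent.CurveRR.Zero
import Groth.Agent.HurwitzAlg.Length
import Groth.Prelude.Def_CurvBase
import Mathlib.AlgebraicGeometry.Morphisms.Finite
import Mathlib.RingTheory.DedekindDomain.Basic
import Mathlib.RingTheory.RamificationInertia.Ramification

/-!
Affine charts of normal curves: Dedekind domains, closed points as maximal ideals, residue fields.
-/

set_option autoImplicit false
set_option linter.unusedSectionVars false
set_option linter.style.haveILetI false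
set_option backward.isDefEq.respectTransparency false

universe u

open CategoryTheory CategoryTheory.Limits AlgebraicGeometry TopologicalSpace Opposite
open Groth.Agent.QC (resO)

attribute [local instance] Curv2.resAlgebra

noncomputable section

namespace Groth.Agent.HurwitzAlg

variable {X : Scheme.{u}}

/-- Affine charts of normal curves are Dedekind domains. -/
theorem isDedekindDomain_sections [IsIntegral X] [IsLocallyNoetherian X] (hdim : topologicalKrullDim X ≤ 1)
    (hn : ∀ x : X, IsIntegrallyClosed (X.presheaf.stalk x)) {U : X.Opens} (hU : IsAffineOpen U) [Nonempty U] :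
    IsDedekindDomain Γ(X, U) := by
  haveI : IsNoetherianRing Γ(X, U) := IsLocallyNoetherian.component_noetherian ⟨U, hU⟩
  haveI : IsIntegrallyClosed Γ(X, U) := NormSect.isIntegrallyClosed_sections U fun x _ => hn x
  have hkd : ringKrullDim Γ(X, U) ≤ 1 := by
    rw [← PrimeSpectrum.topologicalKrullDim_eq_ringKrullDim]
    exact hU.fromSpec.isOpenEmbedding.isEmbedding.isInducing.topologicalKrullDim_le.trans hdim
  haveI : Ring.KrullDimLE 1 Γ(X, U) := Ring.krullDimLE_iff.2 (by exact_mod_cast hkd)
  haveI : Ring.DimensionLEOne Γ(X, U) := ⟨fun hp hP => hP.isMaximal_of_ne_bot hp⟩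
  exact {}

variable {U : X.Opens} (hU : IsAffineOpen U) {x : X} (hx : x ∈ U)

/-- The prime of a point in an affine chart. -/
abbrev pr : Ideal Γ(X, U) := (hU.primeIdealOf ⟨x, hx⟩).asIdeal

/-- The value of a section in the residue field. -/
def evalRes : Γ(X, U) →+* X.residueField x := (X.presheaf.germ U x hx ≫ X.residue x).hom

include hU in
theorem ker_evalRes : RingHom.ker (evalRes hx) = pr hU hx := by
  letI := TopCat.Presheaf.algebra_section_stalk X.presheaf (⟨x, hx⟩ : U)
  haveI := hU.isLocalization_stalk ⟨x, hx⟩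
  ext a
  rw [RingHom.mem_ker]
  show IsLocalRing.residue _ (algebraMap Γ(X, U) (X.presheaf.stalk x) a) = 0 ↔ _
  rw [IsLocalRing.residue_eq_zero_iff]
  exact IsLocalization.AtPrime.to_map_mem_maximal_iff (X.presheaf.stalk x) _ a

include hU in
theorem surjective_evalRes (hxc : IsClosed ({x} : Set X)) : Function.Surjective (evalRes hx) := by
  letI := TopCat.Presheaf.algebra_section_stalk X.presheaf (⟨x, hx⟩ : U)
  haveI := hU.isLocalization_stalk ⟨x, hx⟩
  haveI : (pr hU hx).IsMaximal := hU.primeIdealOf_isMaximal_of_isClosed ⟨x, hx⟩ hxc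
  intro r
  obtain ⟨o, rfl⟩ := IsLocalRing.residue_surjective r
  obtain ⟨a, ha⟩ := IsLocalization.AtPrime.equivQuotMaximalIdeal (pr hU hx) (X.presheaf.stalk x) |>.surjective
    (Ideal.Quotient.mk _ o)
  obtain ⟨a, rfl⟩ := Ideal.Quotient.mk_surjective a
  refine ⟨a, ?_⟩
  show IsLocalRing.residue _ (algebraMap Γ(X, U) (X.presheaf.stalk x) a) = IsLocalRing.residue _ o
  rw [IsLocalization.AtPrime.equivQuotMaximalIdeal_apply_mk] at ha
  exact ha

variable {k : Type u} [Field k] [X.Over (Spec (CommRingCat.of k))]

theorem evalRes_cst (c : k) : evalRes hx (CurveRR.cst k X U c) = algebraMap k (X.residueField x) c := by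
  show X.residue x (X.presheaf.germ U x hx _) = _
  exact congrArg (X.residue x) (X.presheaf.germ_res_apply (homOfLE (le_top : U ≤ ⊤)) x hx _)

/-- Residue fields of closed points as quotients of chart rings. -/
def quotResEquiv (hxc : IsClosed ({x} : Set X)) :
    letI := (CurveRR.cst k X U).toAlgebra
    (Γ(X, U) ⧸ pr hU hx) ≃ₐ[k] X.residueField x :=
  letI := (CurveRR.cst k X U).toAlgebra
  { __ := (Ideal.quotEquivOfEq (ker_evalRes hU hx).symm).trans
      (RingHom.quotientKerEquivOfSurjective (surjective_evalRes hU hx hxc))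
    commutes' := fun c => evalRes_cst hx c }

include hU hx in
theorem finite_residueField [LocallyOfFiniteType (X ↘ Spec (CommRingCat.of k))] (hxc : IsClosed ({x} : Set X)) :
    Module.Finite k (X.residueField x) := by
  letI := (CurveRR.cst k X U).toAlgebra
  haveI : Algebra.FiniteType k Γ(X, U) := RingHom.finiteType_algebraMap.1 (ZeroSch.finiteType_cst hU)
  haveI : Algebra.FiniteType k (X.residueField x) :=
    Algebra.FiniteType.of_surjective ((quotResEquiv (k := k) hU hx hxc).toAlgHom.comp (Ideal.Quotient.mkₐ k (pr hU hx)))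
      ((quotResEquiv (k := k) hU hx hxc).surjective.comp Ideal.Quotient.mk_surjective)
  exact finite_of_finite_type_of_isJacobsonRing k _

include hU in
/-- Maximal ideals of a chart are the closed points in it. -/
theorem exists_point [JacobsonSpace X] (P : Ideal Γ(X, U)) (hP : P.IsMaximal) :
    ∃ (x : X) (hx : x ∈ U), IsClosed ({x} : Set X) ∧ pr hU hx = P := by
  let z : PrimeSpectrum Γ(X, U) := ⟨P, hP.isPrime⟩
  have hzc : z ∈ closedPoints (PrimeSpectrum Γ(X, U)) := (PrimeSpectrum.isClosed_singleton_iff_isMaximal z).2 hP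
  have hzU : hU.fromSpec z ∈ U := hU.range_fromSpec.le ⟨z, rfl⟩
  have hpz : hU.primeIdealOf ⟨hU.fromSpec z, hzU⟩ = z := hU.fromSpec.isOpenEmbedding.injective (hU.fromSpec_primeIdealOf _)
  refine ⟨hU.fromSpec z, hzU, ?_, congrArg PrimeSpectrum.asIdeal hpz⟩
  exact hU.fromSpec.closePoints_subset_preimage_closedPoints hzc

include hU in
theorem pr_injective {y : X} (hy : y ∈ U) (h : pr hU hx = pr hU hy) : x = y := by
  exact (hU.fromSpec_primeIdealOf ⟨x, hx⟩).symm.trans
    ((congrArg hU.fromSpec (PrimeSpectrum.ext h)).trans (hU.fromSpec_primeIdealOf ⟨y, hy⟩))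

end Groth.Agent.HurwitzAlg
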