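import Groth.Agent.HurwitzAlg.Different
import Mathlib.RingTheory.Localization.Module
import Mathlib.RingTheory.Trace.Basic

/-!
The cokernel of the trace form of a finite free extension of Dedekind domains has the dimension of the
quotient by the different.
-/

set_option autoImplicit false
set_option linter.unusedSectionVars false
set_option linter.style.haveILetI false

universe u

open UniqueFactorizationMonoid
open scoped nonZeroDivisors

attribute [local instance] FractionRing.liftAlgebra FractionRing.isScalarTower_liftAlgebra

noncomputable section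

namespace Groth.Agent.HurwitzAlg

variable {A : Type u} {B : Type u} [CommRing A] [IsDedekindDomain A] [CommRing B] [IsDedekindDomain B]
  [Algebra A B] [Module.Finite A B] [Module.IsTorsionFree A B]
  [Algebra.IsSeparable (FractionRing A) (FractionRing B)] {n : ℕ} (e : Module.Basis (Fin n) A B)

/-- The trace form in the coordinates of a basis. -/
def trForm : B →ₗ[A] (Fin n → A) := LinearMap.pi fun i => (Algebra.trace A B).comp (LinearMap.mulLeft A (e i))

theorem trForm_apply (b : B) (i : Fin n) : trForm e b i = Algebra.trace A B (e i * b) := rfl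

include e in
theorem trace_map (b : B) :
    algebraMap A (FractionRing A) (Algebra.trace A B b) =
      Algebra.trace (FractionRing A) (FractionRing B) (algebraMap B (FractionRing B) b) := by
  haveI := Module.Free.of_basis e
  haveI : IsLocalization (Algebra.algebraMapSubmonoid B A⁰) (FractionRing B) :=
    IsIntegralClosure.isLocalization _ (FractionRing A) _ _
  haveI : FiniteDimensional (FractionRing A) (FractionRing B) := .of_isLocalization A B A⁰
  rw [← Algebra.intTrace_eq_trace]
  exact Algebra.algebraMap_intTrace (A := A) (K := FractionRing A) (L := FractionRing B) b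

theorem mem_dual_iff (t : FractionRing B) :
    t ∈ FractionalIdeal.dual A (FractionRing A) (1 : FractionalIdeal B⁰ (FractionRing B)) ↔
      ∀ b : B, ∃ c : A, algebraMap A (FractionRing A) c =
        Algebra.trace (FractionRing A) (FractionRing B) (t * algebraMap B (FractionRing B) b) := by
  rw [FractionalIdeal.mem_dual (one_ne_zero : (1 : FractionalIdeal B⁰ (FractionRing B)) ≠ 0)]
  constructor
  · intro h b
    exact h _ ((FractionalIdeal.mem_one_iff _).2 ⟨b, rfl⟩)
  · intro h a ha
    obtain ⟨b, rfl⟩ := (FractionalIdeal.mem_one_iff _).1 ha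
    exact h b

theorem injective_trForm : Function.Injective (trForm e) := by
  haveI : IsLocalization (Algebra.algebraMapSubmonoid B A⁰) (FractionRing B) :=
    IsIntegralClosure.isLocalization _ (FractionRing A) _ _
  haveI : FiniteDimensional (FractionRing A) (FractionRing B) := .of_isLocalization A B A⁰
  let bL := e.localizationLocalization (FractionRing A) A⁰ (FractionRing B)
  rw [injective_iff_map_eq_zero]
  intro b hb
  refine IsFractionRing.injective B (FractionRing B) ?_
  rw [map_zero]
  refine (traceForm_nondegenerate (FractionRing A) (FractionRing B)).1 _ fun y => ?_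
  suffices h : Algebra.traceForm (FractionRing A) (FractionRing B) (algebraMap B (FractionRing B) b) = 0 from
    LinearMap.congr_fun h y
  refine bL.ext fun i => ?_
  rw [Algebra.traceForm_apply, show bL i = algebraMap B (FractionRing B) (e i) from
    e.localizationLocalization_apply _ _ _ i, ← map_mul, ← trace_map e, mul_comm, ← trForm_apply, hb]
  simp

/-- Multiples of the different solve the trace equations. -/
theorem exists_solution {r : A} (hr : algebraMap A B r ∈ differentIdeal A B) (v : Fin n → A) :
    ∃ b : B, trForm e b = r • v := by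
  haveI : IsLocalization (Algebra.algebraMapSubmonoid B A⁰) (FractionRing B) :=
    IsIntegralClosure.isLocalization _ (FractionRing A) _ _
  haveI : FiniteDimensional (FractionRing A) (FractionRing B) := .of_isLocalization A B A⁰
  let bL := e.localizationLocalization (FractionRing A) A⁰ (FractionRing B)
  let G : FractionRing B →ₗ[FractionRing A] (Fin n → FractionRing A) :=
    LinearMap.pi fun i => (Algebra.traceForm (FractionRing A) (FractionRing B)).flip (algebraMap B (FractionRing B) (e i))
  have hGi : Function.Injective G := by
    rw [injective_iff_map_eq_zero]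
    intro t ht
    refine (traceForm_nondegenerate (FractionRing A) (FractionRing B)).1 _ fun y => ?_
    suffices h : Algebra.traceForm (FractionRing A) (FractionRing B) t = 0 from LinearMap.congr_fun h y
    refine bL.ext fun i => ?_
    rw [show bL i = algebraMap B (FractionRing B) (e i) from e.localizationLocalization_apply _ _ _ i]
    exact congrFun ht i
  have hGs : Function.Surjective G := (LinearMap.injective_iff_surjective_of_finrank_eq_finrank (by
    rw [Module.finrank_eq_card_basis bL, Module.finrank_fin_fun, Fintype.card_fin])).1 hGi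
  obtain ⟨t, ht⟩ := hGs fun i => algebraMap A (FractionRing A) (v i)
  have hti : ∀ i, Algebra.trace (FractionRing A) (FractionRing B) (t * algebraMap B (FractionRing B) (e i)) =
      algebraMap A (FractionRing A) (v i) := fun i => congrFun ht i
  have htd : t ∈ FractionalIdeal.dual A (FractionRing A) (1 : FractionalIdeal B⁰ (FractionRing B)) := by
    refine (mem_dual_iff t).2 fun b => ⟨∑ i, e.repr b i * v i, ?_⟩
    conv_rhs => rw [← e.sum_repr b]
    rw [map_sum, map_sum, Finset.mul_sum, map_sum]
    refine Finset.sum_congr rfl fun i _ => ?_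
    rw [map_mul, show t * algebraMap B (FractionRing B) (e.repr b i • e i) =
      algebraMap A (FractionRing A) (e.repr b i) • (t * algebraMap B (FractionRing B) (e i)) by
        rw [Algebra.smul_def, Algebra.smul_def, map_mul, ← IsScalarTower.algebraMap_apply A B,
          ← IsScalarTower.algebraMap_apply A (FractionRing A) (FractionRing B)]; ring,
      map_smul, smul_eq_mul, hti]
  have hD : (differentIdeal A B : FractionalIdeal B⁰ (FractionRing B)) *
      FractionalIdeal.dual A (FractionRing A) (1 : FractionalIdeal B⁰ (FractionRing B)) = 1 := by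
    rw [coeIdeal_differentIdeal A (FractionRing A), inv_mul_cancel₀]
    exact FractionalIdeal.dual_ne_zero _ _ one_ne_zero
  obtain ⟨b, hb⟩ := (FractionalIdeal.mem_one_iff _).1 (hD.le (FractionalIdeal.mul_mem_mul
    ((FractionalIdeal.mem_coeIdeal _).2 ⟨_, hr, rfl⟩) htd))
  refine ⟨b, funext fun i => IsFractionRing.injective A (FractionRing A) ?_⟩
  rw [trForm_apply, trace_map e, map_mul (algebraMap B (FractionRing B)), hb, Pi.smul_apply, smul_eq_mul,
    map_mul (algebraMap A (FractionRing A)), ← hti i,
    ← IsScalarTower.algebraMap_apply A B, IsScalarTower.algebraMap_apply A (FractionRing A) (FractionRing B),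
    show algebraMap B (FractionRing B) (e i) * (algebraMap (FractionRing A) (FractionRing B) (algebraMap A _ r) * t) =
      algebraMap A (FractionRing A) r • (t * algebraMap B (FractionRing B) (e i)) by rw [Algebra.smul_def]; ring,
    map_smul, smul_eq_mul]

/-- A scalar killing the cokernel of the trace form lies in the different. -/
theorem mem_different_of_smul_le {g : A} (hg : ∀ v : Fin n → A, g • v ∈ LinearMap.range (trForm e)) :
    algebraMap A B g ∈ differentIdeal A B := by
  haveI : IsLocalization (Algebra.algebraMapSubmonoid B A⁰) (FractionRing B) :=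
    IsIntegralClosure.isLocalization _ (FractionRing A) _ _
  haveI : FiniteDimensional (FractionRing A) (FractionRing B) := .of_isLocalization A B A⁰
  let bL := e.localizationLocalization (FractionRing A) A⁰ (FractionRing B)
  let L := FractionRing B
  suffices h : algebraMap B L (algebraMap A B g) ∈ (differentIdeal A B : FractionalIdeal B⁰ L) by
    obtain ⟨x, hx, hxe⟩ := (FractionalIdeal.mem_coeIdeal _).1 h
    exact IsFractionRing.injective B L hxe ▸ hx
  rw [coeIdeal_differentIdeal A (FractionRing A), FractionalIdeal.mem_inv_iff (FractionalIdeal.dual_ne_zero A (FractionRing A) (one_ne_zero : (1 : FractionalIdeal B⁰ (FractionRing B)) ≠ 0))]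
  intro t ht
  choose v hv using fun i => (mem_dual_iff t).1 ht (e i)
  obtain ⟨b, hb⟩ := hg v
  refine (FractionalIdeal.mem_one_iff _).2 ⟨b, ?_⟩
  rw [← sub_eq_zero]
  refine (traceForm_nondegenerate (FractionRing A) L).1 _ fun y => ?_
  suffices h : Algebra.traceForm (FractionRing A) L (algebraMap B L b - algebraMap B L (algebraMap A B g) * t) = 0 from
    LinearMap.congr_fun h y
  refine bL.ext fun i => ?_
  have h1 := congrArg (algebraMap A (FractionRing A)) (congrFun hb i)
  rw [trForm_apply, trace_map e, map_mul (algebraMap B (FractionRing B)), Pi.smul_apply, smul_eq_mul,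
    map_mul (algebraMap A (FractionRing A)), hv] at h1
  rw [show bL i = algebraMap B L (e i) from e.localizationLocalization_apply _ _ _ i, Algebra.traceForm_apply,
    LinearMap.zero_apply, sub_mul, map_sub, sub_eq_zero, ← IsScalarTower.algebraMap_apply A B,
    IsScalarTower.algebraMap_apply A (FractionRing A) L, mul_assoc,
    ← Algebra.smul_def (algebraMap A (FractionRing A) g), map_smul, smul_eq_mul,
    mul_comm (algebraMap B L b), h1]

variable (k : Type u) [Field k] [Algebra k A] [Algebra k B] [IsScalarTower k A B]

/-- The cokernel of the trace form has the dimension of the quotient by the different. -/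
theorem finrank_coker (hB : ¬ IsField B) (hfin : ∀ P : Ideal B, P.IsMaximal → Module.Finite k (B ⧸ P)) :
    Module.Finite k ((Fin n → A) ⧸ LinearMap.range (trForm e)) ∧
      Module.finrank k ((Fin n → A) ⧸ LinearMap.range (trForm e)) = Module.finrank k (B ⧸ differentIdeal A B) := by
  classical
  have hD : differentIdeal A B ≠ ⊥ := differentIdeal_ne_bot
  obtain ⟨r, hr, hr0⟩ := Submodule.exists_mem_ne_zero_of_ne_bot
    (Ideal.comap_ne_bot_of_integral_mem (R := A) (Classical.choose_spec (Submodule.exists_mem_ne_zero_of_ne_bot hD)).2
      (Classical.choose_spec (Submodule.exists_mem_ne_zero_of_ne_bot hD)).1 (Algebra.IsIntegral.isIntegral _))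
  replace hr : algebraMap A B r ∈ differentIdeal A B := hr
  let r' := algebraMap A B r
  have hr' : r' ≠ 0 := (map_ne_zero_iff _ (FaithfulSMul.algebraMap_injective A B)).2 hr0
  choose ψ hψ using exists_solution e hr
  let ψl : (Fin n → A) →ₗ[A] B :=
    { toFun := ψ
      map_add' := fun v w => injective_trForm e (by rw [map_add, hψ, hψ, hψ, smul_add])
      map_smul' := fun c v => injective_trForm e (by rw [RingHom.id_apply, map_smul, hψ, hψ, smul_comm]) }
  have hψT : ∀ b, ψl (trForm e b) = r' * b := fun b => injective_trForm e (by
    show trForm e (ψ (trForm e b)) = _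
    rw [hψ, ← Algebra.smul_def, map_smul])
  have hmul : ∀ (b : B) (v : Fin n → A), ∃ w, ψl w = b * ψl v := by
    intro b v
    refine ⟨fun i => ∑ j, e.repr (e i * b) j * v j, injective_trForm e (funext fun i => ?_)⟩
    show trForm e (ψ _) i = trForm e (b * ψ v) i
    rw [hψ, trForm_apply, ← mul_assoc]
    conv_rhs => rw [← e.sum_repr (e i * b), Finset.sum_mul, map_sum]
    rw [Pi.smul_apply, smul_eq_mul, Finset.mul_sum]
    refine Finset.sum_congr rfl fun j _ => ?_
    rw [smul_mul_assoc, map_smul, smul_eq_mul, ← trForm_apply, hψ, Pi.smul_apply, smul_eq_mul]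
    ring
  let I : Ideal B :=
    { carrier := Set.range ψl
      add_mem' := by rintro _ _ ⟨v, rfl⟩ ⟨w, rfl⟩; exact ⟨v + w, map_add _ _ _⟩
      zero_mem' := ⟨0, map_zero _⟩
      smul_mem' := by rintro b _ ⟨v, rfl⟩; exact hmul b v }
  have hrI : Ideal.span {r'} ≤ I := (Ideal.span_singleton_le_iff_mem _).2 ⟨trForm e 1, by rw [hψT, mul_one]⟩
  have hI0 : I ≠ ⊥ := fun h => hr' (by simpa [h] using hrI (Ideal.mem_span_singleton_self r'))
  have hID : I * differentIdeal A B = Ideal.span {r'} := by
    let K := FractionRing A
    let L := FractionRing B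
    have hrL : algebraMap B L r' ≠ 0 := (map_ne_zero_iff _ (IsFractionRing.injective B L)).2 hr'
    have key : ∀ b : B, b ∈ I ↔ (algebraMap B L r')⁻¹ * algebraMap B L b ∈ FractionalIdeal.dual A K (1 : FractionalIdeal B⁰ L) := by
      intro b
      rw [mem_dual_iff]
      constructor
      · rintro ⟨v, rfl⟩ c
        refine ⟨∑ i, e.repr c i * v i, ?_⟩
        rw [show (algebraMap B L r')⁻¹ * algebraMap B L (ψl v) * algebraMap B L c =
          (algebraMap A K r)⁻¹ • algebraMap B L (c * ψl v) by
            rw [Algebra.smul_def, map_inv₀, ← IsScalarTower.algebraMap_apply A K L,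
              IsScalarTower.algebraMap_apply A B L, map_mul]; ring,
          map_smul, smul_eq_mul, ← trace_map e, eq_inv_mul_iff_mul_eq₀ ((map_ne_zero_iff _ (IsFractionRing.injective A K)).2 hr0),
          ← map_mul]
        congr 1
        conv_rhs => rw [← e.sum_repr c, Finset.sum_mul, map_sum]
        rw [Finset.mul_sum]
        refine Finset.sum_congr rfl fun i _ => ?_
        rw [smul_mul_assoc, map_smul, smul_eq_mul, ← trForm_apply]
        show r * _ = _ * trForm e (ψ v) i
        rw [hψ, Pi.smul_apply, smul_eq_mul]; ring
      · intro h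
        choose v hv using fun i => h (e i)
        refine ⟨v, injective_trForm e (funext fun i => IsFractionRing.injective A K ?_)⟩
        show algebraMap A K (trForm e (ψ v) i) = _
        rw [hψ, Pi.smul_apply, smul_eq_mul, map_mul (algebraMap A K), hv, trForm_apply, trace_map e,
          map_mul (algebraMap B (FractionRing B)),
          show (algebraMap B L r')⁻¹ * algebraMap B L b * algebraMap B L (e i) =
            (algebraMap A K r)⁻¹ • (algebraMap B L (e i) * algebraMap B L b) by
              rw [Algebra.smul_def, map_inv₀, ← IsScalarTower.algebraMap_apply A K L,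
                IsScalarTower.algebraMap_apply A B L]; ring,
          map_smul, smul_eq_mul, mul_inv_cancel_left₀ ((map_ne_zero_iff _ (IsFractionRing.injective A K)).2 hr0)]
    have hcoe : (I : FractionalIdeal B⁰ L) = FractionalIdeal.spanSingleton B⁰ (algebraMap B L r') *
        FractionalIdeal.dual A K (1 : FractionalIdeal B⁰ L) := by
      ext x
      rw [FractionalIdeal.mem_singleton_mul, FractionalIdeal.mem_coeIdeal]
      constructor
      · rintro ⟨b, hb, rfl⟩
        exact ⟨_, (key b).1 hb, by rw [mul_inv_cancel_left₀ hrL]⟩
      · rintro ⟨t, ht, rfl⟩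
        have hDd : (differentIdeal A B : FractionalIdeal B⁰ L) * FractionalIdeal.dual A K 1 = 1 := by
          rw [coeIdeal_differentIdeal A K, inv_mul_cancel₀]
          exact FractionalIdeal.dual_ne_zero _ _ one_ne_zero
        obtain ⟨b, hb⟩ := (FractionalIdeal.mem_one_iff _).1 (hDd.le (FractionalIdeal.mul_mem_mul
          ((FractionalIdeal.mem_coeIdeal _).2 ⟨_, hr, rfl⟩) ht))
        refine ⟨b, (key b).2 ?_, hb⟩
        rw [hb, inv_mul_cancel_left₀ hrL]
        exact ht
    refine FractionalIdeal.coeIdeal_injective (K := L) ?_
    simp only [FractionalIdeal.coeIdeal_mul, hcoe, coeIdeal_differentIdeal A K, FractionalIdeal.coeIdeal_span_singleton]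
    rw [mul_assoc, mul_inv_cancel₀ (FractionalIdeal.dual_ne_zero A (FractionRing A) (one_ne_zero : (1 : FractionalIdeal B⁰ (FractionRing B)) ≠ 0)), mul_one]
  let mkr := (Ideal.Quotient.mkₐ k (Ideal.span {r'})).toLinearMap
  let Φ : (Fin n → A) →ₗ[k] B ⧸ Ideal.span {r'} := mkr.comp (ψl.restrictScalars k)
  have hker : LinearMap.ker Φ = (LinearMap.range (trForm e)).restrictScalars k := by
    ext v
    rw [LinearMap.mem_ker, Submodule.restrictScalars_mem]
    show Ideal.Quotient.mk (Ideal.span {r'}) (ψl v) = 0 ↔ _
    rw [Ideal.Quotient.eq_zero_iff_mem, Ideal.mem_span_singleton]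
    constructor
    · rintro ⟨b, hb⟩
      refine ⟨b, ?_⟩
      have := congrArg (trForm e) hb
      rw [show trForm e (ψl v) = r • v from hψ v, show r' * b = r • b from (Algebra.smul_def r b).symm, map_smul] at this
      exact (smul_right_injective (Fin n → A) hr0 this).symm
    · rintro ⟨b, rfl⟩
      exact ⟨b, hψT b⟩
  let F : (B ⧸ Ideal.span {r'}) →ₗ[k] B ⧸ I := (Ideal.Quotient.factorₐ k hrI).toLinearMap
  have hFs : Function.Surjective F := Ideal.Quotient.factor_surjective hrI
  have hrange : LinearMap.range Φ = LinearMap.ker F := by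
    ext z
    obtain ⟨b, rfl⟩ := Ideal.Quotient.mk_surjective z
    rw [LinearMap.mem_ker]
    show _ ↔ Ideal.Quotient.mk I b = 0
    rw [Ideal.Quotient.eq_zero_iff_mem]
    constructor
    · rintro ⟨v, hv⟩
      replace hv : Ideal.Quotient.mk (Ideal.span {r'}) (ψl v) = Ideal.Quotient.mk _ b := hv
      have h1 := sub_mem (⟨v, rfl⟩ : ψl v ∈ I) (hrI (Ideal.Quotient.eq.1 hv))
      rwa [sub_sub_cancel] at h1
    · rintro ⟨v, rfl⟩
      exact ⟨v, rfl⟩
  obtain ⟨f1, n1⟩ := finrank_quot k hB hfin (Ideal.span {r'}) (by simpa using hr')
  obtain ⟨f2, n2⟩ := finrank_quot k hB hfin I hI0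
  obtain ⟨f3, n3⟩ := finrank_quot k hB hfin (differentIdeal A B) hD
  haveI := f1
  have eQ : ((Fin n → A) ⧸ LinearMap.range (trForm e)) ≃ₗ[k] LinearMap.range Φ :=
    (Submodule.Quotient.restrictScalarsEquiv k (LinearMap.range (trForm e))).symm ≪≫ₗ
      (Submodule.quotEquivOfEq _ _ hker.symm) ≪≫ₗ Φ.quotKerEquivRange
  refine ⟨Module.Finite.equiv eQ.symm, ?_⟩
  rw [eQ.finrank_eq, hrange]
  have h1 := LinearMap.finrank_range_add_finrank_ker F
  have hnf : normalizedFactors (Ideal.span {r'}) = normalizedFactors I + normalizedFactors (differentIdeal A B) := by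
    rw [← hID, normalizedFactors_mul hI0 hD]
  rw [LinearMap.range_eq_top.2 hFs, finrank_top, n1, hnf, Multiset.map_add,
    Multiset.sum_add, ← n2, ← n3] at h1
  omega

end Groth.Agent.HurwitzAlg
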