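import Groth.Agent.HurwitzAlg.Length
import Groth.Agent.S11566
import Mathlib.RingTheory.DedekindDomain.Different
import Mathlib.RingTheory.Trace.Quotient
import Mathlib.RingTheory.RamificationInertia.Ramification

/-!
The exponents of the different of an extension of Dedekind domains: the bound `e - 1`, with equality exactly
at the tame primes.
-/

set_option autoImplicit false
set_option linter.unusedSectionVars false
set_option linter.style.haveILetI false

universe u

open UniqueFactorizationMonoid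
open scoped nonZeroDivisors

attribute [local instance] FractionRing.liftAlgebra FractionRing.isScalarTower_liftAlgebra Ideal.Quotient.field

noncomputable section

namespace Groth.Agent.HurwitzAlg

variable (A : Type u) {B : Type u} [CommRing A] [IsDedekindDomain A] [CommRing B] [IsDedekindDomain B]
  [Algebra A B] [Module.Finite A B] [Module.IsTorsionFree A B]
  [Algebra.IsSeparable (FractionRing A) (FractionRing B)]

/-- If the trace of the cofactor lands in `p`, then the ideal divides the different. -/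
theorem dvd_different_of_trace {p : Ideal A} (hp : p ≠ ⊥) (Q a : Ideal B)
    (ha : p.map (algebraMap A B) = Q * a) (h : ∀ x ∈ a, Algebra.intTrace A B x ∈ p) :
    Q ∣ differentIdeal A B := by
  let K := FractionRing A
  let L := FractionRing B
  have hp' := (Ideal.map_eq_bot_iff_of_injective
    (FaithfulSMul.algebraMap_injective A B)).not.mpr hp
  have habot : a ≠ ⊥ := fun ha' => hp' (by simpa [ha'] using ha)
  have hQbot : Q ≠ ⊥ := by
    rintro rfl; apply hp'
    rwa [Ideal.bot_mul] at ha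
  haveI : IsLocalization (Algebra.algebraMapSubmonoid B A⁰) L := IsIntegralClosure.isLocalization _ K _ _
  haveI : FiniteDimensional K L := .of_isLocalization A B A⁰
  have hQ : ((Q :)⁻¹ : FractionalIdeal B⁰ L) = a / p.map (algebraMap A B) := by
    apply inv_involutive.injective
    simp only [ha, FractionalIdeal.coeIdeal_mul, inv_div, mul_div_assoc]
    rw [div_self (by simpa), mul_one, inv_inv]
  rw [Ideal.dvd_iff_le, differentialIdeal_le_iff (K := K) (L := L) hQbot, hQ, Submodule.map_le_iff_le_comap]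
  intro x hx
  rw [Submodule.restrictScalars_mem, FractionalIdeal.mem_coe,
    FractionalIdeal.mem_div_iff_of_ne_zero (by simpa using hp')] at hx
  rw [Submodule.mem_comap, LinearMap.coe_restrictScalars, ← FractionalIdeal.coe_one,
    ← div_self (G₀ := FractionalIdeal A⁰ K) (a := p) (by simpa using hp),
    FractionalIdeal.mem_coe, FractionalIdeal.mem_div_iff_of_ne_zero (by simpa using hp)]
  simp only [FractionalIdeal.mem_coeIdeal, forall_exists_index, and_imp,
    forall_apply_eq_imp_iff₂] at hx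
  intro y hy'
  obtain ⟨y, hy, rfl : algebraMap A K _ = _⟩ := (FractionalIdeal.mem_coeIdeal _).mp hy'
  obtain ⟨z, hz, hz'⟩ := hx _ (Ideal.mem_map_of_mem _ hy)
  have : Algebra.trace K L (algebraMap B L z) ∈ (p : FractionalIdeal A⁰ K) := by
    rw [← Algebra.algebraMap_intTrace (A := A)]
    exact ⟨Algebra.intTrace A B z, h z hz, rfl⟩
  rwa [mul_comm, ← smul_eq_mul, ← map_smul, Algebra.smul_def, mul_comm,
    ← IsScalarTower.algebraMap_apply, IsScalarTower.algebraMap_apply A B L, ← hz']

/-- `Q` divides the different iff the trace of `B/Q` vanishes. -/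
theorem dvd_different_iff_trace {p : Ideal A} [p.IsMaximal] (hp : p ≠ ⊥) (Q a : Ideal B)
    (ha : p.map (algebraMap A B) = Q * a) (hco : IsCoprime Q a) [Algebra (A ⧸ p) (B ⧸ Q)]
    [IsScalarTower A (A ⧸ p) (B ⧸ Q)] :
    Q ∣ differentIdeal A B ↔ ¬ Function.Surjective (Algebra.trace (A ⧸ p) (B ⧸ Q)) := by
  haveI : Module.Finite (A ⧸ p) (B ⧸ Q) := Module.Finite.of_restrictScalars_finite A _ _
  letI : Algebra (A ⧸ p) (B ⧸ a) := Ideal.Quotient.algebraQuotientOfLEComap
    (Ideal.map_le_iff_le_comap.mp (Ideal.dvd_iff_le.mp ⟨_, ha.trans (mul_comm _ _)⟩))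
  haveI : IsScalarTower A (A ⧸ p) (B ⧸ a) := .of_algebraMap_eq' rfl
  haveI : Module.Finite (A ⧸ p) (B ⧸ a) := .of_restrictScalars_finite A _ _
  let e : (B ⧸ p.map (algebraMap A B)) ≃ₐ[A ⧸ p] ((B ⧸ Q) × B ⧸ a) :=
    { __ := (Ideal.quotEquivOfEq ha).trans (Ideal.quotientMulEquivQuotientProd Q a hco),
      commutes' := Quotient.ind fun c => Prod.ext
        ((IsScalarTower.algebraMap_apply A B (B ⧸ Q) c).symm.trans (IsScalarTower.algebraMap_apply A (A ⧸ p) (B ⧸ Q) c))
        rfl }
  have htr : ∀ x : B, Ideal.Quotient.mk p (Algebra.intTrace A B x) =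
      Algebra.trace (A ⧸ p) (B ⧸ Q) (Ideal.Quotient.mk Q x) + Algebra.trace (A ⧸ p) (B ⧸ a) (Ideal.Quotient.mk a x) := by
    intro x
    rw [← Algebra.trace_quotient_eq_of_isDedekindDomain, ← Algebra.trace_eq_of_algEquiv e, Algebra.trace_prod_apply]
    rfl
  constructor
  · intro hdvd hsurj
    obtain ⟨c, hc⟩ := hsurj 1
    obtain ⟨y, hy⟩ := Ideal.Quotient.mk_surjective (e.symm (c, 0))
    have hey : e (Ideal.Quotient.mk _ y) = (c, 0) := by rw [hy, e.apply_symm_apply]
    have hya : y ∈ a := Ideal.Quotient.eq_zero_iff_mem.1 (congrArg Prod.snd hey)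
    refine not_dvd_differentIdeal_of_intTrace_not_mem A Q a ha.symm y hya ?_ hdvd
    have h1 : Ideal.Quotient.mk Q y = c := congrArg Prod.fst hey
    rw [← Ideal.Quotient.eq_zero_iff_mem, htr, h1, hc, Ideal.Quotient.eq_zero_iff_mem.2 hya, map_zero, add_zero]
    exact one_ne_zero
  · intro h
    refine dvd_different_of_trace A hp Q a ha fun x hx => ?_
    rw [← Ideal.Quotient.eq_zero_iff_mem, htr, Ideal.Quotient.eq_zero_iff_mem.2 hx, map_zero, add_zero]
    by_contra hne
    refine h fun t => ⟨(t * (Algebra.trace (A ⧸ p) (B ⧸ Q) (Ideal.Quotient.mk Q x))⁻¹) • Ideal.Quotient.mk Q x, ?_⟩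
    rw [map_smul, smul_eq_mul, inv_mul_cancel_right₀ hne]

theorem pow_dvd_iff_le_count {I P : Ideal B} (hI : I ≠ ⊥) [hP : P.IsMaximal] (hP0 : P ≠ ⊥) (n : ℕ) :
    P ^ n ∣ I ↔ n ≤ (normalizedFactors I).count P := by
  classical
  have hirr := ((Ideal.prime_iff_isPrime hP0).2 hP.isPrime).irreducible
  rw [pow_dvd_iff_le_emultiplicity, emultiplicity_eq_count_normalizedFactors hirr hI, normalize_eq]
  exact Nat.cast_le

/-- The exponent of the different at a prime is at least `e - 1`, with equality exactly in the tame case. -/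
theorem count_different {p : Ideal A} [p.IsMaximal] (hp : p ≠ ⊥) (P : Ideal B) [hP : P.IsMaximal] [P.LiesOver p] :
    letI := Classical.decEq (Ideal B)
    let e := (normalizedFactors (p.map (algebraMap A B))).count P
    let d := (normalizedFactors (differentIdeal A B)).count P
    1 ≤ e ∧ e - 1 ≤ d ∧
      (d = e - 1 ↔ Algebra.IsSeparable (A ⧸ p) (B ⧸ P) ∧ ((e : ℕ) : A ⧸ p) ≠ 0) := by
  classical
  intro e d
  have hP0 : P ≠ ⊥ := fun h => hp (by
    have h0 := Ideal.LiesOver.over (p := p) (P := P)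
    rw [h0, h, Ideal.under, Ideal.comap_bot_of_injective _ (FaithfulSMul.algebraMap_injective A B)])
  have hp' : p.map (algebraMap A B) ≠ ⊥ := (Ideal.map_eq_bot_iff_of_injective
    (FaithfulSMul.algebraMap_injective A B)).not.mpr hp
  have hD : differentIdeal A B ≠ ⊥ := differentIdeal_ne_bot
  have hmapP : p.map (algebraMap A B) ≤ P := Ideal.map_le_iff_le_comap.2 (Ideal.LiesOver.over (p := p) (P := P)).le
  have he : 1 ≤ e := (pow_dvd_iff_le_count hp' hP0 1).1 (by rw [pow_one]; exact Ideal.dvd_iff_le.2 hmapP)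
  obtain ⟨a, hco, ha⟩ := Ideal.eq_prime_pow_mul_coprime hp' P
  have hco' : IsCoprime (P ^ e) a := (Ideal.isCoprime_iff_sup_eq.2 hco).pow_left
  have hge : e - 1 ≤ d := (pow_dvd_iff_le_count hD hP0 _).1
    (pow_sub_one_dvd_differentIdeal A P e hp ((pow_dvd_iff_le_count hp' hP0 e).2 le_rfl))
  have hle : p.map (algebraMap A B) ≤ P ^ e := Ideal.dvd_iff_le.1 ⟨a, ha⟩
  letI : Algebra (A ⧸ p) (B ⧸ P ^ e) := Ideal.Quotient.algebraQuotientOfLEComap (Ideal.map_le_iff_le_comap.mp hle)
  haveI : IsScalarTower A (A ⧸ p) (B ⧸ P ^ e) := .of_algebraMap_eq' rfl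
  haveI : Module.Finite (A ⧸ p) (B ⧸ P ^ e) := Module.Finite.of_restrictScalars_finite A _ _
  have hiff : d = e - 1 ↔ Function.Surjective (Algebra.trace (A ⧸ p) (B ⧸ P ^ e)) := by
    rw [← not_iff_not, ← dvd_different_iff_trace A hp (P ^ e) a ha hco', pow_dvd_iff_le_count hD hP0]
    change ¬ d = e - 1 ↔ e ≤ d
    omega
  -- `B/P^e` is local of length `e` with residue field `B/P`
  have hPe : P ^ e ≤ P := Ideal.pow_le_self (by omega)
  haveI : Nontrivial (B ⧸ P ^ e) := Ideal.Quotient.nontrivial_iff.2 fun h => hP.ne_top (top_le_iff.1 (h ▸ hPe))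
  have huniq : ∀ m : Ideal (B ⧸ P ^ e), m.IsMaximal → m = P.map (Ideal.Quotient.mk _) := by
    intro m hm
    have h1 : P ^ e ≤ m.comap (Ideal.Quotient.mk _) := fun x hx => by
      rw [Ideal.mem_comap, Ideal.Quotient.eq_zero_iff_mem.2 hx]
      exact zero_mem _
    haveI : (m.comap (Ideal.Quotient.mk (P ^ e))).IsMaximal :=
      Ideal.comap_isMaximal_of_surjective _ Ideal.Quotient.mk_surjective
    have h2 : P ≤ m.comap (Ideal.Quotient.mk _) := (Ideal.IsMaximal.isPrime inferInstance).le_of_pow_le h1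
    exact (Ideal.map_comap_of_surjective _ Ideal.Quotient.mk_surjective m).symm.trans
      (congrArg (Ideal.map (Ideal.Quotient.mk (P ^ e))) (hP.eq_of_le (Ideal.IsMaximal.ne_top inferInstance) h2).symm)
  haveI : IsLocalRing (B ⧸ P ^ e) := IsLocalRing.of_unique_max_ideal <| by
    obtain ⟨m, hm⟩ := Ideal.exists_maximal (B ⧸ P ^ e)
    exact ⟨m, hm, fun m' hm' => (huniq m' hm').trans (huniq m hm).symm⟩
  have hmax : IsLocalRing.maximalIdeal (B ⧸ P ^ e) = P.map (Ideal.Quotient.mk _) :=
    huniq _ (IsLocalRing.maximalIdeal.isMaximal _)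
  have hB : ¬ IsField B := fun hF => hP0 (by
    letI := hF.toField
    exact (Ideal.eq_bot_or_top P).resolve_right hP.ne_top)
  have hlen : (Module.length (B ⧸ P ^ e) (B ⧸ P ^ e)).toNat = e := by
    rw [← Module.length_eq_of_surjective (S := B) (M := B ⧸ P ^ e) Ideal.Quotient.mk_surjective,
      length_quot hB (P ^ e) (pow_ne_zero _ hP0),
      normalizedFactors_pow, normalizedFactors_irreducible ((Ideal.prime_iff_isPrime hP0).2 hP.isPrime).irreducible]
    simp
  have hker : P ^ e ≤ P := hPe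
  let φ : IsLocalRing.ResidueField (B ⧸ P ^ e) ≃+* B ⧸ P :=
    (Ideal.quotEquivOfEq hmax).trans ((DoubleQuot.quotQuotEquivQuotSup (P ^ e) P).trans
      (Ideal.quotEquivOfEq (sup_eq_right.2 hPe)))
  let φa : IsLocalRing.ResidueField (B ⧸ P ^ e) ≃ₐ[A ⧸ p] B ⧸ P :=
    { __ := φ
      commutes' := Quotient.ind fun c => rfl }
  refine ⟨he, hge, hiff.trans ((S11566.result (A ⧸ p) (B ⧸ P ^ e)).trans (and_congr ⟨fun h => ?_, fun h => ?_⟩ ?_))⟩
  · exact Algebra.IsSeparable.of_algHom _ _ φa.symm.toAlgHom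
  · exact Algebra.IsSeparable.of_algHom _ _ φa.toAlgHom
  · rw [hlen]

end Groth.Agent.HurwitzAlg
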