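import Groth.Agent.FinCovTr.TraceForm
import Groth.Agent.ResDesc.Dual
import Groth.Agent.DeltaNorm.Sch
import Groth.Agent.K0Coh.Basic

/-!
The cokernel of the trace form on a chart with a frame.
-/

set_option autoImplicit false
set_option backward.isDefEq.respectTransparency false
set_option backward.isDefEq.respectTransparency.types false
set_option linter.style.haveILetI false
set_option linter.unusedSectionVars false
set_option maxHeartbeats 1000000

universe u

open CategoryTheory CategoryTheory.Limits AlgebraicGeometry TopologicalSpace Opposite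
open Groth.Agent.QC (res resO res_res res_smul resO_resO app_res res_self resO_self)
open Groth.Agent.WeakAssLib (mgerm mgerm_res mgerm_smul)
open TMul (IsFrame)

noncomputable section

namespace Groth.Agent.FinCovTr

variable {Y : Scheme.{u}} {A : RelSpec.QCAlg Y}

attribute [local instance] secAlg

/-- The trace form over a frame, in coordinates. -/
def trFormSec {n : ℕ} {U : Y.Opens} {e : Fin n → Γ(A.toModule, U)} (he : IsFrame e) {W : Y.Opens} (hW : W ≤ U) :
    Sec A W →ₗ[Γ(Y, W)] (Fin n → Γ(Y, W)) :=
  LinearMap.pi fun i => (Algebra.trace Γ(Y, W) (Sec A W)).comp (LinearMap.mulLeft Γ(Y, W) (basisOf he hW i))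

theorem formMap_app_eq (τ : A.toModule ⟶ Coh.structureModule Y)
    (hτ : ∀ (U W : Y.Opens), HasFr A U → W ≤ U → ∀ a : Sec A W, τ.app W a = tr A W a)
    (hA : FlatMod.IsFinLocFree A.toModule) {n : ℕ} {U : Y.Opens} {e : Fin n → Γ(A.toModule, U)} (he : IsFrame e)
    {W : Y.Opens} (hWU : W ≤ U) (b : Γ(A.toModule, W)) :
    (formMap A τ).app W b = (ResDesc.isFrame_coord hA he).equiv hWU (trFormSec he hWU (toRing A W b)) := by
  classical
  refine Subtype.ext (funext fun x => W7Hull.stalkHom_ext (F := A.toModule) (G := Coh.structureModule Y) x.2 fun V hV hxV a => ?_)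
  rw [formMap]
  refine (W7Hull.cur_app (mulMap A ≫ τ) b x.2 hV hxV a).trans ?_
  -- the right-hand side at `a`
  set c := trFormSec he hWU (toRing A W b) with hc
  have hR : ((ResDesc.isFrame_coord hA he).equiv hWU c).1 x (mgerm A.toModule hxV a) =
      mgerm (Coh.structureModule Y) hxV (∑ i, resO Y hV (c i) * (he.equiv (hV.trans hWU)).symm a i : Γ(Y, V)) := by
    show (∑ i, c i • res (RefHull.dual A.toModule) hWU (ResDesc.coord he i) : Γ(RefHull.dual A.toModule, W)).1 x
      (mgerm A.toModule hxV a) = _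
    rw [← RefHull.evalStalk_germ A.toModule (Coh.structureModule Y) x.1 x.2, map_sum, map_sum, LinearMap.sum_apply]
    refine Eq.trans ?_ (map_sum (mgerm (Coh.structureModule Y) hxV) (fun i => (resO Y hV (c i) * (he.equiv (hV.trans hWU)).symm a i : Γ(Y, V))) Finset.univ).symm
    refine Finset.sum_congr rfl fun i _ => ?_
    rw [RefHull.evalStalk_germ A.toModule (Coh.structureModule Y)]
    show Y.presheaf.germ W x.1 x.2 (c i) •
      ((ResDesc.stalkEquiv he _).symm (mgerm A.toModule hxV a) i • ResDesc.oneS x.1) = _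
    have e1 := congrFun (ResDesc.stalkEquiv_germ he (hV.trans hWU) hxV ((he.equiv (hV.trans hWU)).symm a)) i
    rw [LinearEquiv.apply_symm_apply] at e1
    rw [e1, smul_smul]
    refine Eq.trans ?_ (ResDesc.germ_smul_one hxV (resO Y hV (c i) * (he.equiv (hV.trans hWU)).symm a i))
    rw [map_mul]
    congr 2
    exact (Y.presheaf.germ_res_apply (homOfLE hV) x.1 hxV (c i)).symm
  refine Eq.trans ?_ hR.symm
  refine congrArg (mgerm (Coh.structureModule Y) hxV) ?_
  show τ.app V ((mulMap A).app V _) = _
  rw [mulMap_tm, hτ U V ⟨n, e, he⟩ (hV.trans hWU)]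
  show tr A V (toRing A V a * resA A hV (toRing A W b)) = _
  conv_lhs => rw [← (basisOf he (hV.trans hWU)).sum_repr (toRing A V a)]
  rw [Finset.sum_mul, tr, map_sum]
  refine Finset.sum_congr rfl fun i _ => ?_
  rw [smul_mul_assoc, map_smul, smul_eq_mul, mul_comm]
  congr 1
  · rw [hc]
    show _ = resO Y hV (tr A W (basisOf he hWU i * toRing A W b))
    rw [tr_res he hWU hV, map_mul (resA A hV), basisOf_apply, basisOf_apply, resA_resA]
    rfl

/-- The cokernel of the trace form on an affine framed chart. -/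
theorem exists_coker_equiv [IsLocallyNoetherian Y] (τ : A.toModule ⟶ Coh.structureModule Y)
    (hτ : ∀ (U W : Y.Opens), HasFr A U → W ≤ U → ∀ a : Sec A W, τ.app W a = tr A W a)
    (hA : FlatMod.IsFinLocFree A.toModule) [Mono (formMap A τ)] {n : ℕ} {U : Y.Opens}
    {e : Fin n → Γ(A.toModule, U)} (he : IsFrame e) {W : Y.Opens} (hWU : W ≤ U) (hW : IsAffineOpen W) :
    Nonempty (((Fin n → Γ(Y, W)) ⧸ LinearMap.range (trFormSec he hWU)) ≃ₗ[Γ(Y, W)]
      Γ(cokernel (formMap A τ), W)) := by
  have hcA := Groth.Agent.K0Coh.isCoh_of_isFinLocFree hA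
  have hcD := Groth.Agent.K0Coh.isCoh_of_isFinLocFree (ResDesc.isFinLocFree_dual hA)
  have hQ : Coh.IsCoh (cokernel (formMap A τ)) := QC.isCoh_cokernel hcA.1 hcD _
  let π := cokernel.π (formMap A τ)
  let G := (ResDesc.isFrame_coord hA he).equiv hWU
  let Φ : (Fin n → Γ(Y, W)) →ₗ[Γ(Y, W)] Γ(cokernel (formMap A τ), W) :=
    { toFun := fun v => π.app W (G v)
      map_add' := fun v w => by rw [map_add]; exact map_add (π.app W).hom _ _
      map_smul' := fun r v => by rw [map_smul]; exact TMul.app_smul π r _ }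
  have hsurj : Function.Surjective Φ := fun q => by
    obtain ⟨d, hd⟩ := QC.app_surjective_of_epi hW hcD.1 hQ.1 π q
    exact ⟨G.symm d, by show π.app W (G (G.symm d)) = q; rw [G.apply_symm_apply]; exact hd⟩
  have hS : (ShortComplex.mk (formMap A τ) π (cokernel.condition _)).ShortExact :=
    { exact := ShortComplex.exact_cokernel _, mono_f := inferInstance, epi_g := inferInstance }
  have hker : LinearMap.ker Φ = LinearMap.range (trFormSec he hWU) := by
    refine le_antisymm (fun v hv => ?_) ?_
    · have hv0 : π.app W (G v) = 0 := hv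
      obtain ⟨b, hb⟩ := Groth.Agent.SiteCoh.sections_exact (CohFinite.shortExact_toAb hS) W (G v) hv0
      refine ⟨toRing A W b, G.injective ?_⟩
      rw [← formMap_app_eq τ hτ hA he hWU b]
      exact hb
    · rintro _ ⟨b, rfl⟩
      rw [LinearMap.mem_ker]
      show π.app W (G (trFormSec he hWU b)) = 0
      rw [show G (trFormSec he hWU b) = (formMap A τ).app W ((toRing A W).symm b) from
        (formMap_app_eq τ hτ hA he hWU _).symm.trans rfl]
      exact congrArg (fun ψ : A.toModule ⟶ cokernel (formMap A τ) => ψ.app W ((toRing A W).symm b)) (cokernel.condition (formMap A τ))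
  exact ⟨(Submodule.quotEquivOfEq _ _ hker.symm) ≪≫ₗ Φ.quotKerEquivOfSurjective hsurj⟩

end Groth.Agent.FinCovTr
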