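import Groth.Agent.HurwitzAlg.Chart
import Groth.Agent.AssLib.Push
import Mathlib.RingTheory.DedekindDomain.Dvr
import Mathlib.FieldTheory.Separable

/-!
Ramification indices and tameness at a point, computed in an affine chart.
-/

set_option autoImplicit false
set_option linter.unusedSectionVars false
set_option linter.style.haveILetI false
set_option backward.isDefEq.respectTransparency false

universe u

open CategoryTheory CategoryTheory.Limits AlgebraicGeometry TopologicalSpace UniqueFactorizationMonoid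

attribute [local instance] Ideal.Quotient.field

noncomputable section

namespace Groth.Agent.HurwitzAlg

variable {X Y : Scheme.{u}} (f : X ⟶ Y) {W : Y.Opens} (hW : IsAffineOpen W) (hV : IsAffineOpen (f ⁻¹ᵁ W))
  {x : X} (hx : x ∈ f ⁻¹ᵁ W)

theorem germ_app_comm (a : Γ(Y, W)) :
    X.presheaf.germ (f ⁻¹ᵁ W) x hx ((f.app W).hom a) = (f.stalkMap x).hom (Y.presheaf.germ W (f x) hx a) :=
  (Scheme.Hom.germ_stalkMap_apply f W x hx a).symm

include hW hV in
theorem comap_pr : (pr hV hx).comap (f.app W).hom = pr hW (x := f x) hx := by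
  rw [Scheme.Hom.app_eq_appLE]
  exact AssLib.comap_primeIdealOf f hW hV le_rfl hx

/-- The local ramification index is the multiplicity in the chart. -/
theorem ramificationIdx_eq_count [IsDedekindDomain Γ(X, f ⁻¹ᵁ W)] [(pr hV hx).IsMaximal]
    (hne : (pr hW (x := f x) hx).map (f.app W).hom ≠ ⊥) :
    letI := Classical.decEq (Ideal Γ(X, f ⁻¹ᵁ W))
    letI := (f.stalkMap x).hom.toAlgebra
    Ideal.ramificationIdx (IsLocalRing.maximalIdeal (X.presheaf.stalk x)) (Y.presheaf.stalk (f x)) =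
      (normalizedFactors ((pr hW (x := f x) hx).map (f.app W).hom)).count (pr hV hx) := by
  classical
  letI := (f.stalkMap x).hom.toAlgebra
  letI := TopCat.Presheaf.algebra_section_stalk X.presheaf (⟨x, hx⟩ : (f ⁻¹ᵁ W : X.Opens))
  haveI := hV.isLocalization_stalk ⟨x, hx⟩
  letI := TopCat.Presheaf.algebra_section_stalk Y.presheaf (⟨f x, hx⟩ : W)
  haveI := hW.isLocalization_stalk ⟨f x, hx⟩
  set P := pr hV hx with hP
  set p := pr hW (x := f x) hx with hp
  haveI : IsLocalization.AtPrime (X.presheaf.stalk x) P := hV.isLocalization_stalk ⟨x, hx⟩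
  haveI : IsLocalization.AtPrime (Y.presheaf.stalk (f x)) p := hW.isLocalization_stalk ⟨f x, hx⟩
  have hP0 : P ≠ ⊥ := ne_bot_of_le_ne_bot hne (Ideal.map_le_iff_le_comap.2 (comap_pr f hW hV hx).ge)
  haveI : IsDomain (X.presheaf.stalk x) :=
    IsLocalization.isDomain_of_le_nonZeroDivisors (S := X.presheaf.stalk x) (M := P.primeCompl) P.primeCompl_le_nonZeroDivisors
  haveI hdvr : IsDiscreteValuationRing (X.presheaf.stalk x) :=
    IsLocalization.AtPrime.isDiscreteValuationRing_of_dedekind_domain Γ(X, f ⁻¹ᵁ W) hP0 (X.presheaf.stalk x)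
  set c := (normalizedFactors (p.map (f.app W).hom)).count P
  obtain ⟨a, hco, ha⟩ := Ideal.eq_prime_pow_mul_coprime hne P
  have hcomm : (algebraMap Γ(X, f ⁻¹ᵁ W) (X.presheaf.stalk x)).comp (f.app W).hom =
      (f.stalkMap x).hom.comp (algebraMap Γ(Y, W) (Y.presheaf.stalk (f x))) :=
    RingHom.ext fun r => germ_app_comm f hx r
  have hmap : (IsLocalRing.maximalIdeal (Y.presheaf.stalk (f x))).map (f.stalkMap x).hom =
      IsLocalRing.maximalIdeal (X.presheaf.stalk x) ^ c := by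
    rw [← IsLocalization.AtPrime.map_eq_maximalIdeal p (Y.presheaf.stalk (f x)), Ideal.map_map, ← hcomm,
      ← Ideal.map_map, ha, Ideal.map_mul, Ideal.map_pow, IsLocalization.AtPrime.map_eq_maximalIdeal P]
    have htop : a.map (algebraMap Γ(X, f ⁻¹ᵁ W) (X.presheaf.stalk x)) = ⊤ := by
      have hnle : ¬ a ≤ P := fun h => (inferInstance : P.IsMaximal).ne_top (by rw [← hco, sup_of_le_left h])
      obtain ⟨t, hta, htP⟩ := SetLike.not_le_iff_exists.1 hnle
      exact Ideal.eq_top_of_isUnit_mem _ (Ideal.mem_map_of_mem _ hta)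
        (IsLocalization.map_units (X.presheaf.stalk x) (⟨t, htP⟩ : P.primeCompl))
    rw [htop, Ideal.mul_top]
  haveI : IsLocalHom (algebraMap (Y.presheaf.stalk (f x)) (X.presheaf.stalk x)) :=
    inferInstanceAs (IsLocalHom (f.stalkMap x).hom)
  haveI : (IsLocalRing.maximalIdeal (X.presheaf.stalk x)).LiesOver (IsLocalRing.maximalIdeal (Y.presheaf.stalk (f x))) :=
    ⟨(IsLocalRing.maximalIdeal_comap (algebraMap (Y.presheaf.stalk (f x)) (X.presheaf.stalk x))).symm⟩
  have hm0 : IsLocalRing.maximalIdeal (X.presheaf.stalk x) ≠ ⊥ := IsDiscreteValuationRing.not_a_field _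
  have hne' : (IsLocalRing.maximalIdeal (Y.presheaf.stalk (f x))).map
      (algebraMap (Y.presheaf.stalk (f x)) (X.presheaf.stalk x)) ≠ ⊥ := hmap.trans_ne (pow_ne_zero _ hm0)
  rw [← Ideal.ramificationIdx'_eq_ramificationIdx' _ _ hne']
  refine Ideal.ramificationIdx'_spec hmap.le fun hle => ?_
  replace hle : IsLocalRing.maximalIdeal (X.presheaf.stalk x) ^ c ≤
      IsLocalRing.maximalIdeal (X.presheaf.stalk x) ^ (c + 1) := hmap.ge.trans hle
  obtain ⟨ϖ, hϖ⟩ := IsDiscreteValuationRing.exists_irreducible (X.presheaf.stalk x)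
  rw [hϖ.maximalIdeal_eq, Ideal.span_singleton_pow, Ideal.span_singleton_pow,
    Ideal.span_singleton_le_span_singleton, pow_dvd_pow_iff hϖ.ne_zero hϖ.not_isUnit] at hle
  omega

/-- Tameness read in a chart. -/
theorem tame_iff (hxc : IsClosed ({x} : Set X)) (hyc : IsClosed ({f x} : Set Y)) [(pr hW (x := f x) hx).IsMaximal]
    [(pr hV hx).IsMaximal] (n : ℕ)
    [Algebra (Γ(Y, W) ⧸ pr hW (x := f x) hx) (Γ(X, f ⁻¹ᵁ W) ⧸ pr hV hx)]
    (hcompat : ∀ r : Γ(Y, W), algebraMap (Γ(Y, W) ⧸ pr hW (x := f x) hx) (Γ(X, f ⁻¹ᵁ W) ⧸ pr hV hx)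
      (Ideal.Quotient.mk _ r) = Ideal.Quotient.mk _ ((f.app W).hom r)) :
    letI := (f.residueFieldMap x).hom.toAlgebra
    ((Algebra.IsSeparable (Y.residueField (f x)) (X.residueField x) ∧ ((n : ℕ) : Y.residueField (f x)) ≠ 0) ↔
      (Algebra.IsSeparable (Γ(Y, W) ⧸ pr hW (x := f x) hx) (Γ(X, f ⁻¹ᵁ W) ⧸ pr hV hx) ∧
        ((n : ℕ) : Γ(Y, W) ⧸ pr hW (x := f x) hx) ≠ 0)) := by
  letI := (f.residueFieldMap x).hom.toAlgebra
  let e₁ : (Γ(Y, W) ⧸ pr hW (x := f x) hx) ≃+* Y.residueField (f x) :=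
    (Ideal.quotEquivOfEq (ker_evalRes hW hx).symm).trans
      (RingHom.quotientKerEquivOfSurjective (surjective_evalRes hW hx hyc))
  let e₂ : (Γ(X, f ⁻¹ᵁ W) ⧸ pr hV hx) ≃+* X.residueField x :=
    (Ideal.quotEquivOfEq (ker_evalRes hV hx).symm).trans
      (RingHom.quotientKerEquivOfSurjective (surjective_evalRes hV hx hxc))
  have he : RingHom.comp (algebraMap (Y.residueField (f x)) (X.residueField x)) ↑e₁ =
      RingHom.comp ↑e₂ (algebraMap (Γ(Y, W) ⧸ pr hW (x := f x) hx) (Γ(X, f ⁻¹ᵁ W) ⧸ pr hV hx)) := by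
    refine Ideal.Quotient.ringHom_ext (RingHom.ext fun r => ?_)
    show (f.residueFieldMap x) (Y.residue (f x) (Y.presheaf.germ W (f x) hx r)) =
      e₂ (algebraMap _ _ (Ideal.Quotient.mk _ r))
    rw [hcompat]
    show _ = X.residue x (X.presheaf.germ (f ⁻¹ᵁ W) x hx ((f.app W).hom r))
    rw [germ_app_comm f hx r]
    exact congrArg (fun φ : Y.presheaf.stalk (f x) ⟶ X.residueField x => φ.hom (Y.presheaf.germ W (f x) hx r))
      (Scheme.residue_residueFieldMap f x)
  refine and_congr (Algebra.IsSeparable.iff_of_equiv_equiv e₁ e₂ he).symm ?_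
  rw [← map_natCast e₁, map_ne_zero_iff _ e₁.injective]

end Groth.Agent.HurwitzAlg
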