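import Groth.Agent.HurwitzAlg.Form
import Groth.Agent.HurwitzAlg.Coker
import Groth.Agent.HurwitzAlg.Stalk
import Groth.Agent.CurveRR.GenusMap
import Groth.Agent.SuppZero.Basic
import Groth.Agent.LocH.TildeTorsion
import Mathlib.RingTheory.IntegralClosure.IntegrallyClosed

/-!
The exponents of the different of a finite separable morphism of normal curves, chart by chart.
-/

set_option autoImplicit false
set_option backward.isDefEq.respectTransparency false
set_option backward.isDefEq.respectTransparency.types false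
set_option linter.style.haveILetI false
set_option linter.unusedSectionVars false
set_option maxHeartbeats 1600000

universe u

open CategoryTheory CategoryTheory.Limits AlgebraicGeometry TopologicalSpace Opposite UniqueFactorizationMonoid
open Groth.Agent.QC (res resO res_res res_smul resO_resO app_res res_self resO_self)
open Groth.Agent.FinCovTr
open scoped nonZeroDivisors

attribute [local instance] FractionRing.liftAlgebra FractionRing.isScalarTower_liftAlgebra Ideal.Quotient.field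
  Curv2.resAlgebra Groth.Agent.FinCovTr.secAlg

noncomputable section

namespace Groth.Agent.HurwitzAlg

variable {X Y : Scheme.{u}} [IsIntegral X] [IsIntegral Y] (f : X ⟶ Y) [IsFinite f]
  (e : f (genericPoint X) = genericPoint Y)

/-- `f` is tame at `x`. -/
def TameAt (x : X) : Prop :=
  letI := (f.stalkMap x).hom.toAlgebra
  letI := (f.residueFieldMap x).hom.toAlgebra
  Algebra.IsSeparable (Y.residueField (f x)) (X.residueField x) ∧
    ((Ideal.ramificationIdx (IsLocalRing.maximalIdeal (X.presheaf.stalk x)) (Y.presheaf.stalk (f x)) : ℕ) :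
      Y.residueField (f x)) ≠ 0

/-- The local ramification index. -/
def eAt (x : X) : ℕ :=
  letI := (f.stalkMap x).hom.toAlgebra
  Ideal.ramificationIdx (IsLocalRing.maximalIdeal (X.presheaf.stalk x)) (Y.presheaf.stalk (f x))

/-- The separability hypothesis. -/
def GenSep : Prop :=
  letI := ((Y.presheaf.stalkSpecializes (specializes_of_eq e) ≫ f.stalkMap (genericPoint X)).hom).toAlgebra
  Algebra.IsSeparable Y.functionField X.functionField

/-- The degree. -/
def degAt : ℕ :=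
  letI := ((Y.presheaf.stalkSpecializes (specializes_of_eq e) ≫ f.stalkMap (genericPoint X)).hom).toAlgebra
  Module.finrank Y.functionField X.functionField

variable {k : Type u} [Field k] [X.Over (Spec (CommRingCat.of k))] [Y.Over (Spec (CommRingCat.of k))]
  [LocallyOfFiniteType (Y ↘ Spec (CommRingCat.of k))] [LocallyOfFiniteType (X ↘ Spec (CommRingCat.of k))]
  (hf : f ≫ (Y ↘ Spec (CommRingCat.of k)) = X ↘ Spec (CommRingCat.of k))

include hf in
theorem app_cst (W : Y.Opens) (c : k) :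
    (f.app W).hom (CurveRR.cst k Y W c) = CurveRR.cst k X (f ⁻¹ᵁ W) c := by
  show (f.app W).hom ((Y.presheaf.map (homOfLE (le_top : W ≤ ⊤)).op).hom
    ((Y ↘ Spec (CommRingCat.of k)).appTop.hom _)) = (X.presheaf.map (homOfLE (le_top : f ⁻¹ᵁ W ≤ ⊤)).op).hom
    ((X ↘ Spec (CommRingCat.of k)).appTop.hom _)
  rw [← hf, Scheme.Hom.comp_appTop, CommRingCat.hom_comp, RingHom.comp_apply]
  exact congrArg (fun φ : Γ(Y, ⊤) ⟶ Γ(X, f ⁻¹ᵁ W) => φ.hom _) (f.naturality (homOfLE (le_top : W ≤ ⊤)).op)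

include e in
theorem nonempty_preimage {W : Y.Opens} (hne : (W : Set Y).Nonempty) : Nonempty (f ⁻¹ᵁ W) :=
  ⟨⟨genericPoint X, show f (genericPoint X) ∈ W by
    rw [e]
    obtain ⟨y, hy⟩ := hne
    exact ((genericPoint_spec Y).specializes (Set.mem_univ y)).mem_open W.2 hy⟩⟩

include hf in
/-- The data of the different on one framed affine chart. -/
theorem chart_data (hdX : topologicalKrullDim X ≤ 1) (hdY : topologicalKrullDim Y ≤ 1)
    (hnX : ∀ x : X, IsIntegrallyClosed (X.presheaf.stalk x)) (hnY : ∀ y : Y, IsIntegrallyClosed (Y.presheaf.stalk y))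
    (hsep : GenSep f e)
    (τ : (RelSpec.QCAlg.directImage f).toModule ⟶ Coh.structureModule Y)
    (hτ : ∀ (U W : Y.Opens), HasFr (RelSpec.QCAlg.directImage f) U → W ≤ U → ∀ a, τ.app W a = tr (RelSpec.QCAlg.directImage f) W a)
    (hfl : FlatMod.IsFinLocFree (RelSpec.QCAlg.directImage f).toModule)
    [Mono (formMap (RelSpec.QCAlg.directImage f) τ)]
    {n : ℕ} {U : Y.Opens} {fr : Fin n → Γ((RelSpec.QCAlg.directImage f).toModule, U)} (hfr : TMul.IsFrame fr)
    {W : Y.Opens} (hWU : W ≤ U) (hW : IsAffineOpen W) {y₀ : Y} (hy₀ : y₀ ∈ W) (hy₀c : IsClosed ({y₀} : Set Y))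
    (hy₀g : y₀ ≠ genericPoint Y) :
    n = degAt f e ∧
    (∃ r : Γ(Y, W), r ≠ 0 ∧ ∀ q : Γ(cokernel (formMap (RelSpec.QCAlg.directImage f) τ), W), r • q = 0) ∧
    ∃ d : X → ℕ,
      (letI := CurveRR.secMod k (cokernel (formMap (RelSpec.QCAlg.directImage f) τ)) W;
        Module.Finite k Γ(cokernel (formMap (RelSpec.QCAlg.directImage f) τ), W) ∧
        ∃ T : Finset X, (∀ x ∈ T, IsClosed ({x} : Set X) ∧ f x ∈ W) ∧
          (∀ x : X, IsClosed ({x} : Set X) → f x ∈ W → x ∉ T → d x = 0) ∧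
          Module.finrank k Γ(cokernel (formMap (RelSpec.QCAlg.directImage f) τ), W) =
            ∑ x ∈ T, d x * Module.finrank k (X.residueField x)) ∧
      (∀ x : X, IsClosed ({x} : Set X) → f x ∈ W → eAt f x - 1 ≤ d x ∧ (d x = eAt f x - 1 ↔ TameAt f x)) ∧
      ∀ g : Γ(Y, W), (∀ q : Γ(cokernel (formMap (RelSpec.QCAlg.directImage f) τ), Y.basicOpen g), q = 0) →
        ∀ x : X, IsClosed ({x} : Set X) → f x ∈ Y.basicOpen g → d x = 0 := by
  classical
  haveI : IsLocallyNoetherian Y := LocallyOfFiniteType.isLocallyNoetherian (Y ↘ Spec (CommRingCat.of k))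
  haveI : IsLocallyNoetherian X := LocallyOfFiniteType.isLocallyNoetherian f
  haveI : JacobsonSpace X := LocallyOfFiniteType.jacobsonSpace (X ↘ Spec (CommRingCat.of k))
  haveI : JacobsonSpace Y := LocallyOfFiniteType.jacobsonSpace (Y ↘ Spec (CommRingCat.of k))
  haveI hWne : Nonempty W := ⟨⟨y₀, hy₀⟩⟩
  haveI hVne : Nonempty (f ⁻¹ᵁ W) := nonempty_preimage f e ⟨y₀, hy₀⟩
  have hV := hW.preimage f
  have hηY : genericPoint Y ∈ W := ((genericPoint_spec Y).specializes (Set.mem_univ y₀)).mem_open W.2 hy₀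
  have hηX : genericPoint X ∈ f ⁻¹ᵁ W := show f (genericPoint X) ∈ W by rw [e]; exact hηY
  haveI := isDedekindDomain_sections hdY hnY hW
  haveI := isDedekindDomain_sections hdX hnX hV
  letI a1 := ((Y.presheaf.stalkSpecializes (specializes_of_eq e) ≫ f.stalkMap (genericPoint X)).hom).toAlgebra
  haveI : Algebra.IsSeparable Y.functionField X.functionField := hsep
  letI a2 : Algebra Γ(Y, W) Γ(X, f ⁻¹ᵁ W) := (f.app W).hom.toAlgebra
  letI a3 : Algebra Γ(Y, W) Y.functionField := (Y.presheaf.germ W _ hηY).hom.toAlgebra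
  letI a4 : Algebra Γ(X, f ⁻¹ᵁ W) X.functionField := (X.presheaf.germ (f ⁻¹ᵁ W) _ hηX).hom.toAlgebra
  letI a5 : Algebra Γ(Y, W) X.functionField :=
    ((algebraMap Γ(X, f ⁻¹ᵁ W) X.functionField).comp (algebraMap Γ(Y, W) Γ(X, f ⁻¹ᵁ W))).toAlgebra
  haveI : IsScalarTower Γ(Y, W) Γ(X, f ⁻¹ᵁ W) X.functionField := IsScalarTower.of_algebraMap_eq' rfl
  haveI : IsScalarTower Γ(Y, W) Y.functionField X.functionField := IsScalarTower.of_algebraMap_eq fun r => by
    have h1 := TopCat.Presheaf.germ_stalkSpecializes Y.presheaf hηY (specializes_of_eq e)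
    have h2 := Scheme.Hom.germ_stalkMap f W (genericPoint X) (show f (genericPoint X) ∈ W by rw [e]; exact hηY)
    show (X.presheaf.germ (f ⁻¹ᵁ W) _ hηX) ((f.app W) r) =
      (Y.presheaf.stalkSpecializes (specializes_of_eq e) ≫ f.stalkMap (genericPoint X)) (Y.presheaf.germ W _ hηY r)
    rw [← CommRingCat.comp_apply, ← CommRingCat.comp_apply, reassoc_of% h1, h2]
  haveI : IsFractionRing Γ(Y, W) Y.functionField := functionField_isFractionRing_of_isAffineOpen Y W hW
  haveI : IsFractionRing Γ(X, f ⁻¹ᵁ W) X.functionField :=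
    functionField_isFractionRing_of_isAffineOpen X (f ⁻¹ᵁ W) hV
  let bB : Module.Basis (Fin n) Γ(Y, W) Γ(X, f ⁻¹ᵁ W) := basisOf hfr hWU
  haveI : Module.Free Γ(Y, W) Γ(X, f ⁻¹ᵁ W) := Module.Free.of_basis bB
  haveI : Module.Finite Γ(Y, W) Γ(X, f ⁻¹ᵁ W) := Module.Finite.of_basis bB
  haveI : IsIntegralClosure Γ(X, f ⁻¹ᵁ W) Γ(Y, W) X.functionField :=
    IsIntegralClosure.of_isIntegrallyClosed Γ(X, f ⁻¹ᵁ W) Γ(Y, W) X.functionField
  haveI : IsLocalization (Algebra.algebraMapSubmonoid Γ(X, f ⁻¹ᵁ W) Γ(Y, W)⁰) X.functionField :=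
    IsIntegralClosure.isLocalization Γ(Y, W) Y.functionField X.functionField Γ(X, f ⁻¹ᵁ W)
  haveI : FiniteDimensional Y.functionField X.functionField :=
    Module.Finite.of_isLocalization Γ(Y, W) Γ(X, f ⁻¹ᵁ W) Γ(Y, W)⁰
  haveI : Module.IsTorsionFree Γ(Y, W) Γ(X, f ⁻¹ᵁ W) := inferInstance
  have hdeg : n = degAt f e := by
    rw [degAt, Module.finrank_eq_card_basis (bB.localizationLocalization Y.functionField Γ(Y, W)⁰ X.functionField),
      Fintype.card_fin]
  haveI : Algebra.IsSeparable (FractionRing Γ(Y, W)) (FractionRing Γ(X, f ⁻¹ᵁ W)) := by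
    refine Algebra.IsSeparable.of_equiv_equiv (FractionRing.algEquiv Γ(Y, W) Y.functionField).symm.toRingEquiv
      (FractionRing.algEquiv Γ(X, f ⁻¹ᵁ W) X.functionField).symm.toRingEquiv ?_
    apply IsLocalization.ringHom_ext Γ(Y, W)⁰
    ext r
    simp only [RingHom.coe_comp, RingHom.coe_coe, AlgEquiv.coe_ringEquiv, Function.comp_apply, AlgEquiv.commutes,
      ← IsScalarTower.algebraMap_apply]
    rw [IsScalarTower.algebraMap_apply Γ(Y, W) Γ(X, f ⁻¹ᵁ W) X.functionField, AlgEquiv.commutes,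
      ← IsScalarTower.algebraMap_apply]
  letI algA : Algebra k Γ(Y, W) := (CurveRR.cst k Y W).toAlgebra
  letI algB : Algebra k Γ(X, f ⁻¹ᵁ W) := (CurveRR.cst k X (f ⁻¹ᵁ W)).toAlgebra
  haveI : IsScalarTower k Γ(Y, W) Γ(X, f ⁻¹ᵁ W) :=
    IsScalarTower.of_algebraMap_eq fun c => (app_cst f hf W c).symm
  have hclA : (pr hW hy₀).IsMaximal := hW.primeIdealOf_isMaximal_of_isClosed ⟨y₀, hy₀⟩ hy₀c
  have hA : ¬ IsField Γ(Y, W) := fun hF => by
    have h0 : pr hW hy₀ = ⊥ := by
      letI := hF.toField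
      exact (Ideal.eq_bot_or_top _).resolve_right hclA.ne_top
    have h1 : hW.primeIdealOf ⟨genericPoint Y, hηY⟩ ⤳ hW.primeIdealOf ⟨y₀, hy₀⟩ := by
      rw [← hW.fromSpec.isOpenEmbedding.isInducing.specializes_iff, hW.fromSpec_primeIdealOf, hW.fromSpec_primeIdealOf]
      exact (genericPoint_spec Y).specializes (Set.mem_univ _)
    have h2 := (PrimeSpectrum.le_iff_specializes _ _).2 h1
    have h3 : hW.primeIdealOf ⟨y₀, hy₀⟩ = hW.primeIdealOf ⟨genericPoint Y, hηY⟩ :=
      PrimeSpectrum.ext (le_antisymm (h0.le.trans bot_le) h2)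
    exact hy₀g ((hW.fromSpec_primeIdealOf ⟨y₀, hy₀⟩).symm.trans
      ((congrArg hW.fromSpec h3).trans (hW.fromSpec_primeIdealOf ⟨genericPoint Y, hηY⟩)))
  have hinjA : Function.Injective (algebraMap Γ(Y, W) Γ(X, f ⁻¹ᵁ W)) := FaithfulSMul.algebraMap_injective _ _
  have hB : ¬ IsField Γ(X, f ⁻¹ᵁ W) := fun hF =>
    hA (isField_of_isIntegral_of_isField hinjA hF)
  set D := differentIdeal Γ(Y, W) Γ(X, f ⁻¹ᵁ W)
  have hD : D ≠ ⊥ := differentIdeal_ne_bot
  let dd : X → ℕ := fun x => if h : x ∈ f ⁻¹ᵁ W then (normalizedFactors D).count (pr hV h) else 0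
  obtain ⟨Ψ⟩ := exists_coker_equiv (A := RelSpec.QCAlg.directImage f) τ hτ hfl hfr hWU hW
  have hrange : LinearMap.range (trFormSec hfr hWU) = LinearMap.range (trForm bB) := rfl
  have hfin : ∀ P : Ideal Γ(X, f ⁻¹ᵁ W), P.IsMaximal → Module.Finite k (Γ(X, f ⁻¹ᵁ W) ⧸ P) := by
    intro P hP
    obtain ⟨x, hx, hxc, rfl⟩ := exists_point hV P hP
    haveI := finite_residueField (k := k) hV hx hxc
    exact Module.Finite.equiv (quotResEquiv (k := k) hV hx hxc).toLinearEquiv.symm
  refine ⟨hdeg, ?_, dd, ?_, fun x hxc hxW => ?_, fun g hg x hxc hxg => ?_⟩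
  · obtain ⟨r, hr, hr0⟩ := Submodule.exists_mem_ne_zero_of_ne_bot
      (Ideal.comap_ne_bot_of_integral_mem (R := Γ(Y, W))
        (Classical.choose_spec (Submodule.exists_mem_ne_zero_of_ne_bot hD)).2
        (Classical.choose_spec (Submodule.exists_mem_ne_zero_of_ne_bot hD)).1 (Algebra.IsIntegral.isIntegral _))
    refine ⟨r, hr0, fun q => ?_⟩
    obtain ⟨z, rfl⟩ := Ψ.surjective q
    obtain ⟨v, rfl⟩ := Submodule.Quotient.mk_surjective _ z
    rw [← map_smul, ← Submodule.Quotient.mk_smul, (Submodule.Quotient.mk_eq_zero _).2, map_zero]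
    rw [hrange]
    obtain ⟨b, hb⟩ := exists_solution bB (r := r) hr v
    exact ⟨b, hb⟩
  · letI := CurveRR.secMod k (cokernel (formMap (RelSpec.QCAlg.directImage f) τ)) W
    haveI : IsScalarTower k Γ(Y, W) Γ(cokernel (formMap (RelSpec.QCAlg.directImage f) τ), W) :=
      IsScalarTower.of_algebraMap_smul fun c q => rfl
    obtain ⟨hF, hR⟩ := finrank_coker bB k hB hfin
    let Ψk := ((Submodule.quotEquivOfEq _ _ hrange.symm).trans Ψ).restrictScalars k
    haveI := hF
    refine ⟨Module.Finite.equiv Ψk, ?_⟩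
    obtain ⟨-, hsum⟩ := finrank_quot k hB hfin D hD
    have hmax : ∀ P ∈ (normalizedFactors D).toFinset, P.IsMaximal := fun P hP => by
      have := prime_of_normalized_factor P (Multiset.mem_toFinset.1 hP)
      exact Ideal.IsPrime.isMaximal (Ideal.isPrime_of_prime this) this.ne_zero
    choose pt hptV hptc hpte using fun P : (normalizedFactors D).toFinset => exists_point hV P.1 (hmax P.1 P.2)
    refine ⟨Finset.univ.image pt, fun x hx => ?_, fun x hxc hxW hxT => ?_, ?_⟩
    · obtain ⟨P, -, rfl⟩ := Finset.mem_image.1 hx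
      exact ⟨hptc P, hptV P⟩
    · simp only [dd, dif_pos (show x ∈ f ⁻¹ᵁ W from hxW), Multiset.count_eq_zero]
      intro hmem
      let P₀ : (normalizedFactors D).toFinset := ⟨_, Multiset.mem_toFinset.2 hmem⟩
      refine hxT (Finset.mem_image.2 ⟨P₀, Finset.mem_univ _, ?_⟩)
      exact (pr_injective hV (show x ∈ f ⁻¹ᵁ W from hxW) (hptV P₀) (hpte P₀).symm).symm
    · rw [← Ψk.finrank_eq, hR, hsum, Finset.sum_multiset_map_count,
        Finset.sum_image (fun P _ P' _ h => Subtype.ext (by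
          rw [← hpte P, ← hpte P']; congr 1)), ← Finset.sum_coe_sort (normalizedFactors D).toFinset]
      refine Finset.sum_congr rfl fun P _ => ?_
      rw [smul_eq_mul, show dd (pt P) = Multiset.count P.1 (normalizedFactors D) by
        simp only [dd, dif_pos (hptV P), hpte P]]
      congr 1
      conv_lhs => rw [← hpte P]
      exact (quotResEquiv (k := k) hV (hptV P) (hptc P)).toLinearEquiv.finrank_eq
  · -- the bound at a closed point
    have hx : x ∈ f ⁻¹ᵁ W := hxW
    have hyc : IsClosed ({f x} : Set Y) := f.closePoints_subset_preimage_closedPoints hxc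
    haveI : (pr hW (x := f x) hx).IsMaximal := hW.primeIdealOf_isMaximal_of_isClosed ⟨f x, hx⟩ hyc
    haveI : (pr hV hx).IsMaximal := hV.primeIdealOf_isMaximal_of_isClosed ⟨x, hx⟩ hxc
    haveI : (pr hV hx).LiesOver (pr hW (x := f x) hx) := ⟨(comap_pr f hW hV hx).symm⟩
    have hp0 : pr hW (x := f x) hx ≠ ⊥ := Ring.ne_bot_of_isMaximal_of_not_isField inferInstance hA
    obtain ⟨-, h2, h3⟩ := count_different Γ(Y, W) hp0 (pr hV hx)
    have he := ramificationIdx_eq_count f hW hV hx ((Ideal.map_eq_bot_iff_of_injective hinjA).not.mpr hp0)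
    simp only [dd, dif_pos hx]
    refine ⟨?_, ?_⟩
    · rw [eAt, he]; exact h2
    · rw [eAt, he]
      refine h3.trans (Iff.trans ?_ (Iff.of_eq (by rw [TameAt, he])))
      exact (tame_iff f hW hV hx hxc hyc _ fun r => rfl).symm
  · have hx : x ∈ f ⁻¹ᵁ W := Y.basicOpen_le g hxg
    simp only [dd, dif_pos hx, Multiset.count_eq_zero]
    intro hmem
    have hDP : D ≤ pr hV hx := Ideal.dvd_iff_le.1 (dvd_of_mem_normalizedFactors hmem)
    have hcD : Coh.IsCoh (cokernel (formMap (RelSpec.QCAlg.directImage f) τ)) :=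
      QC.isCoh_cokernel (K0Coh.isCoh_of_isFinLocFree hfl).1 (K0Coh.isCoh_of_isFinLocFree (ResDesc.isFinLocFree_dual hfl)) _
    haveI := hcD.1
    have hkill : ∀ q : Γ(cokernel (formMap (RelSpec.QCAlg.directImage f) τ), W), ∃ m : ℕ, g ^ m • q = 0 := fun q =>
      QC.exists_pow_smul_eq_zero_of_isCompact hW.isCompact g q (hg _)
    choose m hm using fun i : Fin n => hkill (Ψ (Submodule.Quotient.mk (Pi.single i 1)))
    have hgD : algebraMap Γ(Y, W) Γ(X, f ⁻¹ᵁ W) (g ^ (Finset.univ.sup m)) ∈ D := by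
      refine mem_different_of_smul_le bB fun v => ?_
      rw [← hrange, ← Submodule.Quotient.mk_eq_zero, ← Ψ.map_eq_zero_iff, Submodule.Quotient.mk_smul, map_smul,
        pi_eq_sum_univ' v, ← Submodule.mkQ_apply, map_sum, map_sum, Finset.smul_sum]
      refine Finset.sum_eq_zero fun i _ => ?_
      rw [map_smul, map_smul, smul_comm, show g ^ Finset.univ.sup m = g ^ (Finset.univ.sup m - m i) * g ^ m i by
        rw [← pow_add, Nat.sub_add_cancel (Finset.le_sup (Finset.mem_univ i))], mul_smul, Submodule.mkQ_apply, hm,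
        smul_zero, smul_zero]
    have hgy : g ^ Finset.univ.sup m ∈ pr hW (x := f x) hx := by
      rw [← comap_pr f hW hV hx, Ideal.mem_comap]
      exact hDP hgD
    exact ((WeakAssLib.mem_primeIdealOf hW hx g).1 hxg) ((hW.primeIdealOf ⟨f x, hx⟩).isPrime.mem_of_pow_mem _ hgy)

end Groth.Agent.HurwitzAlg
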